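import Groth.Agent.InjLocal.Basic
import Groth.Agent.IdealSub.NoethObj
import Groth.Agent.KFlatLib.Scheme.SheafGen
import Mathlib.Algebra.Category.ModuleCat.Colimits

/-!
# Sums of injective modules on a locally Noetherian scheme
-/

set_option linter.style.haveILetI false
set_option backward.isDefEq.respectTransparency false
set_option backward.isDefEq.respectTransparency.types false

universe u

open CategoryTheory CategoryTheory.Limits AlgebraicGeometry TopologicalSpace Opposite Groth.Agent
open Groth.Agent.KFlatLib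

namespace Groth.Agent.InjLocal

section Abstract

variable {C : Type*} [Category C] [Abelian C]

/-- Enlarging a subobject by the image of a map. -/
lemma exists_step {B I G : C} (S : Subobject B) (g : (S : C) ⟶ I) (h : G ⟶ B) (e : G ⟶ I)
    (he : pullback.fst S.arrow h ≫ g = pullback.snd S.arrow h ≫ e) (hh : ¬ ∃ l, l ≫ S.arrow = h) :
    ∃ (T : Subobject B) (hT : S ≤ T), ¬ T ≤ S ∧ ∃ g' : (T : C) ⟶ I, Subobject.ofLE S T hT ≫ g' = g := by
  let φ : (S : C) ⊞ G ⟶ B := biprod.desc S.arrow h
  let ψ : (S : C) ⊞ G ⟶ I := biprod.desc g e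
  let p := Abelian.factorThruImage φ
  have hp : p ≫ Abelian.image.ι φ = φ := Abelian.image.fac φ
  have hker : kernel.ι p ≫ ψ = 0 := by
    obtain ⟨a, b, hk⟩ : ∃ (a : kernel p ⟶ (S : C)) (b : kernel p ⟶ G),
        kernel.ι p = a ≫ biprod.inl + b ≫ biprod.inr := by
      refine ⟨kernel.ι p ≫ biprod.fst, kernel.ι p ≫ biprod.snd, ?_⟩
      simp only [Category.assoc, ← Preadditive.comp_add, biprod.total, Category.comp_id]
    have hab : a ≫ S.arrow + b ≫ h = 0 := by
      have h0 : kernel.ι p ≫ φ = 0 :=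
        (congrArg (fun z => kernel.ι p ≫ z) hp).symm.trans (by rw [kernel.condition_assoc, zero_comp])
      rw [hk, Preadditive.add_comp, Category.assoc, Category.assoc, biprod.inl_desc, biprod.inr_desc] at h0
      exact h0
    let l := pullback.lift (f := S.arrow) (g := h) (-a) b
      (by rw [Preadditive.neg_comp]; exact neg_eq_of_add_eq_zero_right hab)
    have h1 := congrArg (fun z => l ≫ z) he
    simp only [l, pullback.lift_fst_assoc, pullback.lift_snd_assoc, Preadditive.neg_comp] at h1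
    rw [hk, Preadditive.add_comp, Category.assoc, Category.assoc, biprod.inl_desc, biprod.inr_desc, ← h1,
      add_neg_cancel]
  have hle : S ≤ Subobject.mk (Abelian.image.ι φ) := Subobject.le_mk_of_comm (biprod.inl ≫ p) (by
    rw [Category.assoc, hp, biprod.inl_desc])
  refine ⟨Subobject.mk (Abelian.image.ι φ), hle, fun hTS => hh ?_,
    (Subobject.underlyingIso _).hom ≫ Abelian.epiDesc p ψ hker, ?_⟩
  · refine ⟨biprod.inr ≫ p ≫ (Subobject.underlyingIso _).inv ≫ Subobject.ofLE _ S hTS, ?_⟩
    simp only [Category.assoc, Subobject.ofLE_arrow, Subobject.underlyingIso_arrow, hp]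
    exact biprod.inr_desc _ _
  · have h5 : Subobject.ofLE S (Subobject.mk (Abelian.image.ι φ)) hle ≫ (Subobject.underlyingIso _).hom =
        biprod.inl ≫ p := by
      rw [← cancel_mono (Abelian.image.ι φ), Category.assoc, Category.assoc,
        Subobject.underlyingIso_hom_comp_eq_mk, hp, biprod.inl_desc]
      exact Subobject.ofLE_arrow _
    rw [← Category.assoc, h5, Category.assoc, Abelian.comp_epiDesc, biprod.inl_desc]

end Abstract

variable {X : Scheme.{u}}

/-- Extensions by zero of structure sheaves of affine opens detect zero maps. -/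
lemma exists_affine_gen_ne_zero {B Q : X.Modules} (q : B ⟶ Q) (hq : q ≠ 0) :
    ∃ (V : X.Opens) (_ : IsAffineOpen V) (h : (lsh V.ι).obj (Coh.structureModule (V : Scheme.{u})) ⟶ B),
      h ≫ q ≠ 0 := by
  by_contra hcon
  simp only [not_exists, not_not] at hcon
  apply hq
  refine Scheme.Modules.hom_ext _ _ fun W => ?_
  ext s
  refine QCoh.eq_zero_of_locally W _ fun p hp => ?_
  obtain ⟨_, ⟨V₀, hV₀, rfl⟩, hpV₀, hVW₀⟩ := X.isBasis_affineOpens.exists_subset_of_mem_open hp W.isOpen
  obtain ⟨V, hV, hpV, hVW⟩ : ∃ V : X.Opens, IsAffineOpen V ∧ p ∈ V ∧ V ≤ W := ⟨V₀, hV₀, hpV₀, hVW₀⟩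
  refine ⟨V, homOfLE hVW, hpV, ?_⟩
  rw [← QCoh.map_app_comm]
  generalize B.presheaf.map (homOfLE hVW).op s = s'
  have hV' : V.ι ''ᵁ ⊤ = V := by simp
  let t : Γ(B.restrict V.ι, ⊤) := B.presheaf.map (homOfLE hV'.le).op s'
  have h₁ := congrArg ((lshAdj V.ι).homEquiv _ _)
    (hcon V hV (((lshAdj V.ι).homEquiv _ _).symm (QCoh.homOfTop t)))
  erw [(lshAdj V.ι).homEquiv_naturality_right, Equiv.apply_symm_apply] at h₁
  have h₃ : QCoh.homOfTop t ≫ (Scheme.Modules.restrictFunctor V.ι).map q = 0 := by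
    refine h₁.trans ?_
    rw [Adjunction.homEquiv_unit, Functor.map_zero, comp_zero]
  have h₄ := congrArg (fun z => z.app ⊤ (1 : Γ((V : Scheme.{u}), ⊤))) h₃
  simp only at h₄
  change ((Scheme.Modules.restrictFunctor V.ι).map q).app ⊤
    ((QCoh.homOfTop t).app ⊤ (1 : Γ((V : Scheme.{u}), ⊤))) = _ at h₄
  rw [QCoh.homOfTop_app] at h₄
  erw [one_smul] at h₄
  have h₅ : (B.restrict V.ι).presheaf.map (homOfLE le_top : (⊤ : (V : Scheme.{u}).Opens) ⟶ ⊤).op t = t := by
    rw [show (homOfLE le_top : (⊤ : (V : Scheme.{u}).Opens) ⟶ ⊤).op = 𝟙 _ from rfl,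
      CategoryTheory.Functor.map_id]
    rfl
  erw [h₅] at h₄
  change q.app (V.ι ''ᵁ ⊤) (B.presheaf.map (homOfLE hV'.le).op s') = 0 at h₄
  have h₆ := congrArg (Q.presheaf.map (homOfLE hV'.ge).op) h₄
  rw [map_zero, ← QCoh.map_app_comm] at h₆
  erw [QCoh.map_map, QCoh.map_id'] at h₆
  exact h₆

/-- A map from a chain-Noetherian object into a coproduct involves finitely many summands. -/
lemma exists_finset_killing {ι : Type u} [DecidableEq ι] (I : ι → X.Modules) {K : X.Modules} (g : K ⟶ ∐ I)
    (hK : WellFoundedGT (Subobject K)) :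
    ∃ s : Finset ι, g ≫ Sigma.desc (fun i => if i ∈ s then 0 else Sigma.ι I i) = 0 := by
  let π : Finset ι → (∐ I ⟶ ∐ I) := fun s => Sigma.desc (fun i => if i ∈ s then 0 else Sigma.ι I i)
  have hπ : ∀ s t, s ⊆ t → π s ≫ π t = π t := fun s t h => Sigma.hom_ext _ _ fun i => by
    by_cases hi : i ∈ s
    · simp [π, hi, h hi]
    · simp [π, hi]
  obtain ⟨_, ⟨s₀, rfl⟩, hmax⟩ := hK.wf.has_min
    (Set.range fun s => kernelSubobject (g ≫ π s)) (Set.range_nonempty _)
  refine ⟨s₀, eq_zero_of_stalk _ fun x => ModuleCat.hom_ext (LinearMap.ext fun z => ?_)⟩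
  let Φ := DerSch.stalkFunctor X x
  let c := isColimitOfPreserves Φ (colimit.isColimit (Discrete.functor I))
  have hmem : ∃ s : Finset ι, Φ.map (π s) (Φ.map g z) = 0 := by
    generalize Φ.map g z = y
    let P : Submodule (X.presheaf.stalk x) (Φ.obj (∐ I) : Type u) :=
      { carrier := {y | ∃ s : Finset ι, Φ.map (π s) y = 0}
        add_mem' := by
          rintro a b ⟨s, hs⟩ ⟨t, ht⟩
          refine ⟨s ∪ t, ?_⟩
          have h1 : ∀ r y, r ⊆ s ∪ t → Φ.map (π r) y = 0 → Φ.map (π (s ∪ t)) y = 0 := fun r y hr h0 => by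
            rw [← hπ r _ hr, Functor.map_comp]
            change Φ.map (π (s ∪ t)) (Φ.map (π r) y) = 0
            rw [h0, map_zero]
          rw [map_add, h1 s a Finset.subset_union_left hs, h1 t b Finset.subset_union_right ht, add_zero]
        zero_mem' := ⟨∅, map_zero _⟩
        smul_mem' := by
          rintro r a ⟨s, hs⟩
          exact ⟨s, by rw [map_smul, hs, smul_zero]⟩ }
    have hP : ModuleCat.ofHom P.mkQ = (0 : Φ.obj (∐ I) ⟶ _) := c.hom_ext fun ⟨i⟩ => by
      rw [comp_zero]
      refine ModuleCat.hom_ext (LinearMap.ext fun w => (Submodule.Quotient.mk_eq_zero P).2 ⟨{i}, ?_⟩)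
      change Φ.map (π {i}) (Φ.map (Sigma.ι I i) w) = 0
      have h2 : Sigma.ι I i ≫ π {i} = 0 := by simp [π]
      have h3 := ConcreteCategory.congr_hom ((Φ.map_comp (Sigma.ι I i) (π {i})).symm.trans
        (by rw [h2, Functor.map_zero] : Φ.map (Sigma.ι I i ≫ π {i}) = 0)) w
      exact h3
    exact (Submodule.Quotient.mk_eq_zero P).1 (ConcreteCategory.congr_hom hP y)
  obtain ⟨s, hs⟩ := hmem
  let t := s₀ ∪ s
  have hle : ∀ r, r ⊆ t → kernelSubobject (g ≫ π r) ≤ kernelSubobject (g ≫ π t) := fun r hr =>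
    le_kernelSubobject _ _ (by rw [← hπ r t hr, ← Category.assoc g, kernelSubobject_arrow_comp_assoc, zero_comp])
  have heq : kernelSubobject (g ≫ π t) ≤ kernelSubobject (g ≫ π s₀) := by
    by_contra hn
    exact hmax _ ⟨t, rfl⟩ (lt_of_le_not_ge (hle s₀ Finset.subset_union_left) hn)
  have hzt : Φ.map (g ≫ π t) z = 0 := by
    rw [← hπ s t Finset.subset_union_right, Functor.map_comp, Functor.map_comp]
    change Φ.map (π t) (Φ.map (π s) (Φ.map g z)) = 0
    rw [hs, map_zero]
  let T := ShortComplex.mk (kernel.ι (g ≫ π t)) (g ≫ π t) (kernel.condition _)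
  have hex := (exact_iff_stalk T).1 (ShortComplex.exact_of_f_is_kernel _ (kernelIsKernel _)) x
  obtain ⟨w, hw⟩ := (ShortComplex.moduleCat_exact_iff _).1 hex z hzt
  change Φ.map (kernel.ι (g ≫ π t)) w = z at hw
  have h0 : kernel.ι (g ≫ π t) ≫ g ≫ π s₀ = 0 := by
    have h1 : (kernelSubobject (g ≫ π t)).arrow ≫ g ≫ π s₀ = 0 := by
      rw [← Subobject.ofLE_arrow heq, Category.assoc, kernelSubobject_arrow_comp, comp_zero]
    rw [← kernelSubobject_arrow', Category.assoc, h1, comp_zero]
  change Φ.map (g ≫ π s₀) z = 0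
  rw [← hw]
  have h4 := ConcreteCategory.congr_hom (congrArg Φ.map h0) w
  rw [Functor.map_comp, Functor.map_zero] at h4
  exact h4

/-- On a locally Noetherian scheme a coproduct of injective modules is injective. -/
theorem injective_coproduct [IsLocallyNoetherian X] {ι : Type u} (I : ι → X.Modules)
    (hI : ∀ j, Injective (I j)) : Injective (∐ I) := by
  classical
  refine injective_of_step _ fun B S g hne => ?_
  have hq : cokernel.π S.arrow ≠ 0 := fun h0 => hne (by
    haveI : Epi S.arrow := Preadditive.epi_of_isZero_cokernel _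
      ((IsZero.iff_id_eq_zero _).2 (by rw [← cancel_epi (cokernel.π S.arrow), h0]; simp))
    haveI : IsIso S.arrow := isIso_of_mono_of_epi _
    exact Subobject.eq_top_of_isIso_arrow S)
  obtain ⟨V, hV, h, hh⟩ := exists_affine_gen_ne_zero _ hq
  haveI : IsAffine (V : Scheme.{u}) := hV
  haveI : IsLocallyNoetherian (V : Scheme.{u}) := isLocallyNoetherian_of_isOpenImmersion V.ι
  haveI : IsNoetherian (V : Scheme.{u}) := {}
  have hKn : WellFoundedGT (Subobject (pullback S.arrow h)) := by
    have hG : WellFoundedGT (Subobject ((lsh V.ι).obj (Coh.structureModule (V : Scheme.{u})))) :=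
      wellFoundedGT_iff_monotone_chain_condition.2 fun c =>
        IdealSub.chain_stabilizes_lsh V.ι (Iso.refl _) c
    haveI := hG
    exact StrictMono.wellFoundedGT (f := (Subobject.map (pullback.snd S.arrow h)).obj)
      (Monotone.strictMono_of_injective (fun a b hab => leOfHom ((Subobject.map _).map (homOfLE hab)))
        (Subobject.map_obj_injective _))
  obtain ⟨s, hs⟩ := exists_finset_killing I (pullback.fst S.arrow h ≫ g) hKn
  let pr : ∀ i, ∐ I ⟶ I i := fun i => Sigma.desc fun j => if hji : j = i then eqToHom (by rw [hji]) else 0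
  have htot : Sigma.desc (fun i => if i ∈ s then 0 else Sigma.ι I i) + ∑ i ∈ s, pr i ≫ Sigma.ι I i = 𝟙 _ := by
    refine Sigma.hom_ext _ _ fun j => ?_
    rw [Preadditive.comp_add, Preadditive.comp_sum, Sigma.ι_desc, Category.comp_id]
    have : ∀ i, Sigma.ι I j ≫ pr i ≫ Sigma.ι I i = if j = i then Sigma.ι I j else 0 := fun i => by
      by_cases hji : j = i
      · subst hji; simp [pr]
      · simp [pr, hji]
    rw [Finset.sum_congr rfl fun i _ => this i, Finset.sum_ite_eq]
    by_cases hj : j ∈ s <;> simp [hj]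
  have := hI
  let e := ∑ i ∈ s, Injective.factorThru ((pullback.fst S.arrow h ≫ g) ≫ pr i) (pullback.snd S.arrow h) ≫
    Sigma.ι I i
  refine exists_step S g h e ?_ fun ⟨l, hl⟩ => hh (by rw [← hl, Category.assoc, cokernel.condition, comp_zero])
  calc pullback.fst S.arrow h ≫ g = (pullback.fst S.arrow h ≫ g) ≫ 𝟙 _ := (Category.comp_id _).symm
    _ = pullback.snd S.arrow h ≫ e := by
      rw [← htot, Preadditive.comp_add, hs, zero_add]
      simp only [e, Preadditive.comp_sum, Injective.comp_factorThru_assoc, Category.assoc]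

end Groth.Agent.InjLocal
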