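import Groth.Agent.KFlatLib.Scheme.ExtZero
import Groth.Agent.KFlatLib.Scheme.Grothendieck
import Mathlib.CategoryTheory.Abelian.GrothendieckCategory.Subobject

/-!
# Injectivity is local

An extension principle in a Grothendieck abelian category, and the fact that a module on a scheme
which is locally injective is injective.
-/

set_option linter.style.haveILetI false
set_option backward.isDefEq.respectTransparency false

universe v u

open CategoryTheory CategoryTheory.Limits AlgebraicGeometry

namespace Groth.Agent.InjLocal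

section Abstract

variable {C : Type u} [Category.{v} C] [Abelian C] [IsGrothendieckAbelian.{v} C]

/-- A partial map from a subobject of `B` to `I`. -/
def Part (B I : C) : Type (max u v) := Σ S : Subobject B, (S : C) ⟶ I

/-- The order by extension. -/
def Part.Le {B I : C} (p q : Part B I) : Prop :=
  ∃ h : p.1 ≤ q.1, Subobject.ofLE p.1 q.1 h ≫ q.2 = p.2

instance (B I : C) : Preorder (Part B I) where
  le := Part.Le
  le_refl p := ⟨le_rfl, by simp⟩
  le_trans p q r := fun ⟨h, e⟩ ⟨h', e'⟩ => ⟨h.trans h', by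
    rw [← Subobject.ofLE_comp_ofLE _ _ _ h h', Category.assoc, e', e]⟩

lemma exists_upperBound {B I : C} (c : Set (Part B I)) (hc : IsChain (· ≤ ·) c)
    (p : Part B I) (hp : p ∈ c) : ∃ q, ∀ r ∈ c, r ≤ q := by
  let s : Set (Subobject B) := Sigma.fst '' c
  obtain ⟨K, ⟨e⟩⟩ : ∃ K : Type v, Nonempty (K ≃ s) := ⟨_, ⟨(equivShrink s).symm⟩⟩
  let S : K → Subobject B := fun k => (e k).1
  have hS : ∀ k, ∃ g : (S k : C) ⟶ I, (⟨S k, g⟩ : Part B I) ∈ c := by
    intro k
    obtain ⟨⟨T, g⟩, hr, hT⟩ := (e k).2
    change T = S k at hT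
    subst hT
    exact ⟨g, hr⟩
  choose g hg using hS
  have hcmp : ∀ k l, S k ≤ S l → ∀ h : S k ≤ S l, Subobject.ofLE (S k) (S l) h ≫ g l = g k := by
    intro k l _ h
    rcases hc.total (hg k) (hg l) with ⟨_, e'⟩ | ⟨h', e'⟩
    · exact e'
    · dsimp only at h' e'
      rw [← e', ← Category.assoc, Subobject.ofLE_comp_ofLE, Subobject.ofLE_refl, Category.id_comp]
  letI : Preorder K := Preorder.lift S
  haveI : IsDirectedOrder K := ⟨fun k l => by
    rcases hc.total (hg k) (hg l) with ⟨h, _⟩ | ⟨h, _⟩
    · exact ⟨l, h, le_refl _⟩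
    · exact ⟨k, le_refl _, h⟩⟩
  haveI : Nonempty K := ⟨e.symm ⟨p.1, p, hp, rfl⟩⟩
  let F : K ⥤ MonoOver B :=
    { obj := fun k => MonoOver.mk (S k).arrow
      map := fun {k l} f => MonoOver.homMk (Subobject.ofLE (S k) (S l) (show S k ≤ S l from (show k ≤ l from leOfHom f))) (Subobject.ofLE_arrow _)
      map_id := fun _ => Subsingleton.elim _ _
      map_comp := fun _ _ => Subsingleton.elim _ _ }
  haveI hcol : HasColimitsOfShape K C := inferInstance
  let D : K ⥤ C := F ⋙ MonoOver.forget _ ⋙ Over.forget _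
  let f : colimit D ⟶ B := colimit.desc D (Cocone.mk B
    { app := fun k => (S k).arrow
      naturality := fun k l φ => by
        change Subobject.ofLE (S k) (S l) (show S k ≤ S l from (show k ≤ l from leOfHom φ)) ≫ (S l).arrow = (S k).arrow ≫ 𝟙 B
        simp })
  have hf : ∀ k, colimit.ι D k ≫ f = (S k).arrow := fun k => colimit.ι_desc _ _
  haveI : Mono f := IsGrothendieckAbelian.mono_of_isColimit_monoOver F (colimit.isColimit D) f hf
  let φ : colimit D ⟶ I := colimit.desc D (Cocone.mk I
    { app := fun k => g k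
      naturality := fun k l ψ => by
        change Subobject.ofLE (S k) (S l) (show S k ≤ S l from (show k ≤ l from leOfHom ψ)) ≫ g l = g k ≫ 𝟙 I
        rw [Category.comp_id]
        exact hcmp k l (show S k ≤ S l from (show k ≤ l from leOfHom ψ)) _ })
  refine ⟨⟨Subobject.mk f, (Subobject.underlyingIso f).hom ≫ φ⟩, fun r hr => ?_⟩
  obtain ⟨k, hk⟩ : ∃ k, S k = r.1 := ⟨e.symm ⟨r.1, r, hr, rfl⟩, by simp [S]⟩
  obtain ⟨T, gr⟩ := r
  change S k = T at hk
  subst hk
  have hgk : gr = g k := by
    rcases hc.total hr (hg k) with ⟨_, e'⟩ | ⟨_, e'⟩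
    · simpa using e'.symm
    · simpa using e'
  subst hgk
  refine ⟨Subobject.le_mk_of_comm (colimit.ι D k) (hf k), ?_⟩
  have hι : Subobject.ofLE (S k) (Subobject.mk f) (Subobject.le_mk_of_comm (colimit.ι D k) (hf k)) ≫
      (Subobject.underlyingIso f).hom = colimit.ι D k := by
    rw [← cancel_mono f, Category.assoc, Subobject.underlyingIso_hom_comp_eq_mk, Subobject.ofLE_arrow, hf]
  dsimp only
  rw [← Category.assoc, hι]
  exact colimit.ι_desc _ _

/-- An object to which partial maps extend by one step is injective. -/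
theorem injective_of_step (I : C)
    (h : ∀ (B : C) (S : Subobject B) (g : (S : C) ⟶ I), S ≠ ⊤ →
      ∃ (T : Subobject B) (hT : S ≤ T), ¬ T ≤ S ∧ ∃ g' : (T : C) ⟶ I, Subobject.ofLE S T hT ≫ g' = g) :
    Injective I := by
  refine ⟨fun {A B} a i hi => ?_⟩
  haveI := hi
  let p₀ : Part B I := ⟨Subobject.mk i, (Subobject.underlyingIso i).hom ≫ a⟩
  obtain ⟨m, hm, hmax⟩ := zorn_le_nonempty₀ (Set.Ici p₀) (fun c hcs hc y hy => by
    obtain ⟨q, hq⟩ := exists_upperBound c hc y hy
    exact ⟨q, (Set.mem_Ici.1 (hcs hy)).trans (hq y hy), hq⟩) p₀ Set.self_mem_Ici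
  have htop : m.1 = ⊤ := by
    by_contra hne
    obtain ⟨T, hT, hTS, g', hg'⟩ := h B m.1 m.2 hne
    let q : Part B I := ⟨T, g'⟩
    have h1 : m ≤ q := ⟨hT, hg'⟩
    exact hTS (hmax.2 (Set.mem_Ici.2 (le_trans hm h1)) h1).1
  obtain ⟨S, g⟩ := m
  obtain ⟨h0, e0⟩ := hm
  dsimp only [p₀] at h0 e0 htop
  subst htop
  haveI : IsIso (⊤ : Subobject B).arrow := inferInstance
  refine ⟨inv (⊤ : Subobject B).arrow ≫ g, ?_⟩
  have h2 : Subobject.ofLE (Subobject.mk i) ⊤ h0 =
      (Subobject.mk i).arrow ≫ inv (⊤ : Subobject B).arrow := by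
    rw [IsIso.eq_comp_inv, Subobject.ofLE_arrow]
  rw [h2] at e0
  rw [← cancel_epi (Subobject.underlyingIso i).hom, ← e0, ← Category.assoc,
    Subobject.underlyingIso_hom_comp_eq_mk, Category.assoc]

end Abstract

section Scheme

open Groth.Agent.KFlatLib

variable {X : Scheme.{u}}

lemma eq_zero_of_stalk {K F : X.Modules} (z : K ⟶ F)
    (h : ∀ x, (DerSch.stalkFunctor X x).map z = 0) : z = 0 := by
  haveI : IsIso (kernel.ι z) := isIso_of_stalk _ fun x => by
    haveI : IsIso (kernel.ι ((DerSch.stalkFunctor X x).map z)) :=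
      ⟨kernel.lift _ (𝟙 _) (by rw [h x, comp_zero]), by
        rw [← cancel_mono (kernel.ι ((DerSch.stalkFunctor X x).map z)), Category.assoc, kernel.lift_ι,
          Category.comp_id, Category.id_comp], kernel.lift_ι _ _ _⟩
    rw [← kernelComparison_comp_ι z (DerSch.stalkFunctor X x)]
    infer_instance
  rw [← cancel_epi (kernel.ι z), kernel.condition, comp_zero]

lemma stalk_zero_of_restrict (U : X.Opens) {M N : X.Modules} (z : M ⟶ N)
    (h : (Scheme.Modules.restrictFunctor U.ι).map z = 0) (x : X) (hx : x ∈ U) :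
    (DerSch.stalkFunctor X x).map z = 0 := by
  let u : (U : Scheme.{u}) := ⟨x, hx⟩
  have e := Scheme.Modules.restrictStalkNatIso U.ι u
  let F₀ := Scheme.Modules.restrictFunctor U.ι ⋙ Scheme.Modules.toPresheaf (U : Scheme.{u}) ⋙
    TopCat.Presheaf.stalkFunctor Ab.{u} u
  have h0 : F₀.map z = 0 := by
    change (Scheme.Modules.toPresheaf (U : Scheme.{u}) ⋙ TopCat.Presheaf.stalkFunctor Ab.{u} u).map
      ((Scheme.Modules.restrictFunctor U.ι).map z) = 0
    rw [h, Functor.map_zero]
  have h1 : (Scheme.Modules.toPresheaf X ⋙ TopCat.Presheaf.stalkFunctor Ab.{u} x).map z = 0 := by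
    have h2 := e.hom.naturality z
    rw [show F₀.map z = 0 from h0, zero_comp] at h2
    exact (cancel_epi (e.hom.app M)).1 (h2.symm.trans comp_zero.symm)
  apply (forget₂ (ModuleCat (X.presheaf.stalk x)) AddCommGrpCat).map_injective
  rw [Functor.map_zero]
  exact h1

/-- A module which is locally injective is injective. -/
theorem injective_of_local (F : X.Modules)
    (hF : ∀ x : X, ∃ U : X.Opens, x ∈ U ∧ Injective ((Scheme.Modules.restrictFunctor U.ι).obj F)) :
    Injective F := by
  refine injective_of_step F fun B S g hne => ?_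
  -- an open where the subobject is not everything
  obtain ⟨U, hFU, hU⟩ : ∃ U : X.Opens, Injective ((Scheme.Modules.restrictFunctor U.ι).obj F) ∧
      ¬ IsIso ((Scheme.Modules.restrictFunctor U.ι).map S.arrow) := by
    by_contra hcon
    apply hne
    haveI : IsIso S.arrow := by
      refine isIso_of_stalk _ fun x => ?_
      obtain ⟨U, hx, hFU⟩ := hF x
      have hi : IsIso ((Scheme.Modules.restrictFunctor U.ι).map S.arrow) :=
        not_not.1 fun hn => hcon ⟨U, hFU, hn⟩
      haveI := hi
      have hb := ConcreteCategory.bijective_of_isIso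
        ((DerSch.stalkFunctor (U : Scheme.{u}) ⟨x, hx⟩).map
          ((Scheme.Modules.restrictFunctor U.ι).map S.arrow))
      exact (ConcreteCategory.isIso_iff_bijective _).2
        ⟨injective_stalk_of_restrict U.ι _ ⟨x, hx⟩ hb.1, surjective_stalk_of_restrict U.ι _ ⟨x, hx⟩ hb.2⟩
    exact Subobject.eq_top_of_isIso_arrow S
  haveI := hFU
  let R := Scheme.Modules.restrictFunctor U.ι
  let adj := lshAdj U.ι
  let c : (lsh U.ι).obj (R.obj B) ⟶ B := adj.counit.app B
  haveI : IsIso (R.map c) := IsIso.of_isIso_fac_left (adj.right_triangle_components B)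
  let hh : R.obj B ⟶ R.obj F := Injective.factorThru (R.map g) (R.map S.arrow)
  have hhh : R.map S.arrow ≫ hh = R.map g := Injective.comp_factorThru _ _
  let e : (lsh U.ι).obj (R.obj B) ⟶ F := (adj.homEquiv _ _).symm hh
  have he : R.map e = R.map c ≫ hh := by
    have h1 : adj.unit.app (R.obj B) ≫ R.map e = hh :=
      (adj.homEquiv_unit _ _ _).symm.trans ((adj.homEquiv _ _).apply_symm_apply hh)
    have h2 : adj.unit.app (R.obj B) ≫ R.map c = 𝟙 _ := adj.right_triangle_components B
    rw [← cancel_epi (adj.unit.app (R.obj B)), h1, reassoc_of% h2]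
  let φ : (S : X.Modules) ⊞ (lsh U.ι).obj (R.obj B) ⟶ B := biprod.desc S.arrow c
  let ψ : (S : X.Modules) ⊞ (lsh U.ι).obj (R.obj B) ⟶ F := biprod.desc g e
  have hker : kernel.ι φ ≫ ψ = 0 := by
    obtain ⟨a, b, hk⟩ : ∃ (a : kernel φ ⟶ (S : X.Modules)) (b : kernel φ ⟶ (lsh U.ι).obj (R.obj B)),
        kernel.ι φ = a ≫ biprod.inl + b ≫ biprod.inr := by
      refine ⟨kernel.ι φ ≫ biprod.fst, kernel.ι φ ≫ biprod.snd, ?_⟩
      simp only [Category.assoc, ← Preadditive.comp_add, biprod.total, Category.comp_id]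
    have hab : a ≫ S.arrow + b ≫ c = 0 := by
      have := kernel.condition φ
      rw [hk, Preadditive.add_comp, Category.assoc, Category.assoc, biprod.inl_desc, biprod.inr_desc] at this
      exact this
    have hψ : kernel.ι φ ≫ ψ = a ≫ g + b ≫ e := by
      rw [hk, Preadditive.add_comp, Category.assoc, Category.assoc, biprod.inl_desc, biprod.inr_desc]
    have hR : R.map (kernel.ι φ ≫ ψ) = 0 := by
      have h3 := congrArg (fun z => R.map z ≫ hh) hab
      simp only [Functor.map_add, Functor.map_comp, Functor.map_zero, Preadditive.add_comp,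
        Category.assoc, zero_comp, hhh, ← he] at h3
      rw [hψ]
      simpa only [Functor.map_add, Functor.map_comp] using h3
    refine eq_zero_of_stalk _ fun x => ?_
    by_cases hx : x ∈ U
    · exact stalk_zero_of_restrict U _ hR x hx
    · have hb : (DerSch.stalkFunctor X x).map b = 0 :=
        (isZero_stalk_lsh U.ι x (by simpa using hx) _).eq_of_tgt _ _
      have ha : (DerSch.stalkFunctor X x).map a = 0 := by
        have h4 := congrArg (DerSch.stalkFunctor X x).map hab
        rw [Functor.map_add, Functor.map_comp, Functor.map_comp, Functor.map_zero, hb, zero_comp,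
          add_zero] at h4
        exact zero_of_comp_mono _ h4
      rw [hψ, Functor.map_add, Functor.map_comp, Functor.map_comp, ha, hb, zero_comp, zero_comp, add_zero]
  let T : Subobject B := Subobject.mk (Abelian.image.ι φ)
  let p := Abelian.factorThruImage φ
  have hp : p ≫ Abelian.image.ι φ = φ := Abelian.image.fac φ
  have hkp : kernel.ι p ≫ ψ = 0 := by
    have : kernel.ι p ≫ φ = 0 := by
      have e1 := congrArg (fun z => kernel.ι p ≫ z) hp
      simp only [kernel.condition_assoc, zero_comp] at e1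
      exact e1.symm
    rw [← kernel.lift_ι φ _ this, Category.assoc, hker, comp_zero]
  let g'' : Abelian.image φ ⟶ F := Abelian.epiDesc p ψ hkp
  have hg'' : p ≫ g'' = ψ := Abelian.comp_epiDesc _ _ _
  have hle : S ≤ T := Subobject.le_mk_of_comm (biprod.inl ≫ p) (by
    rw [Category.assoc, hp, biprod.inl_desc])
  refine ⟨T, hle, fun hTS => hU ?_, (Subobject.underlyingIso _).hom ≫ g'', ?_⟩
  · let l : (lsh U.ι).obj (R.obj B) ⟶ (S : X.Modules) :=
      biprod.inr ≫ p ≫ (Subobject.underlyingIso _).inv ≫ Subobject.ofLE T S hTS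
    have hl : l ≫ S.arrow = c := by
      simp only [l, Category.assoc, Subobject.ofLE_arrow]
      change biprod.inr ≫ p ≫ (Subobject.underlyingIso _).inv ≫ (Subobject.mk (Abelian.image.ι φ)).arrow = c
      rw [Subobject.underlyingIso_arrow, hp, biprod.inr_desc]
    haveI : Mono (R.map S.arrow) := inferInstance
    haveI : Epi (R.map l ≫ R.map S.arrow) := by
      rw [← R.map_comp, hl]; infer_instance
    haveI : Epi (R.map S.arrow) := epi_of_epi (R.map l) _
    exact isIso_of_mono_of_epi _
  · have h5 : Subobject.ofLE S T hle ≫ (Subobject.underlyingIso _).hom = biprod.inl ≫ p := by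
      rw [← cancel_mono (Abelian.image.ι φ), Category.assoc, Category.assoc,
        Subobject.underlyingIso_hom_comp_eq_mk, hp, biprod.inl_desc]
      exact Subobject.ofLE_arrow _
    rw [← Category.assoc, h5, Category.assoc, hg'', biprod.inl_desc]

end Scheme

end Groth.Agent.InjLocal
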